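import Mathlib
import Mathlib.RingTheory.IsTensorProduct
import Mathlib.Algebra.Polynomial.Splits
/-!
After a finite free extension, a finite algebra is a quotient of a finite free algebra covered by sections.
-/

set_option autoImplicit false
set_option linter.style.haveILetI false

universe u

open Polynomial TensorProduct

namespace Groth.Agent.SectCover

theorem exists_universal {S : Type u} [CommRing S] {g : S[X]} (hg : g.Monic) :
    ∀ n : ℕ, ∃ (C : Type u) (_ : CommRing C) (_ : Algebra S C) (x : Fin n → C),
      Module.Free S C ∧ Module.Finite S C ∧ Algebra.adjoin S (Set.range x) = ⊤ ∧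
      (∀ i, aeval (x i) g = 0) ∧
      ∀ (D : Type u) [CommRing D] [Algebra S D] (d : Fin n → D), (∀ i, aeval (d i) g = 0) →
        ∃ φ : C →ₐ[S] D, ∀ i, φ (x i) = d i := by
  intro n
  induction n with
  | zero =>
    refine ⟨S, inferInstance, inferInstance, Fin.elim0, inferInstance, inferInstance, ?_, fun i => i.elim0,
      fun D _ _ d _ => ⟨Algebra.ofId S D, fun i => i.elim0⟩⟩
    exact Algebra.eq_top_iff.2 fun c => Subalgebra.algebraMap_mem _ c
  | succ n ih =>
    obtain ⟨C, _, _, x, hfree, hfin, hgen, hroot, huniv⟩ := ih
    let G := g.map (algebraMap S C)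
    have hG : G.Monic := hg.map _
    haveI := hG.free_adjoinRoot
    haveI := hG.finite_adjoinRoot
    let y : Fin (n + 1) → AdjoinRoot G := Fin.cons (AdjoinRoot.root G) fun i => AdjoinRoot.of G (x i)
    refine ⟨AdjoinRoot G, inferInstance, inferInstance, y, Module.Free.trans (S := C),
      Module.Finite.trans C _, ?_, ?_, ?_⟩
    · rw [Algebra.eq_top_iff]
      intro z
      induction z using AdjoinRoot.induction_on with
      | ih p =>
        have hC : ∀ c : C, AdjoinRoot.of G c ∈ Algebra.adjoin S (Set.range y) := by
          intro c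
          have hc : c ∈ Algebra.adjoin S (Set.range x) := hgen ▸ Algebra.mem_top
          induction hc using Algebra.adjoin_induction with
          | mem c hc =>
            obtain ⟨i, rfl⟩ := hc
            exact Algebra.subset_adjoin ⟨i.succ, by simp [y]⟩
          | algebraMap r => exact Subalgebra.algebraMap_mem _ r
          | add a b _ _ ha hb => rw [map_add]; exact add_mem ha hb
          | mul a b _ _ ha hb => rw [map_mul]; exact mul_mem ha hb
        have hr : AdjoinRoot.root G ∈ Algebra.adjoin S (Set.range y) :=
          Algebra.subset_adjoin ⟨0, by simp [y]⟩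
        induction p using Polynomial.induction_on' with
        | add p q hp hq => rw [map_add]; exact add_mem hp hq
        | monomial k c =>
          rw [← C_mul_X_pow_eq_monomial, map_mul, map_pow, AdjoinRoot.mk_C, AdjoinRoot.mk_X]
          exact mul_mem (hC c) (pow_mem hr k)
    · intro i
      induction i using Fin.cases with
      | zero =>
        have h := AdjoinRoot.eval₂_root G
        rw [Polynomial.eval₂_map] at h
        simp only [y, Fin.cons_zero, aeval_def]
        exact h
      | succ i =>
        have h : (IsScalarTower.toAlgHom S C (AdjoinRoot G)) (aeval (x i) g) = 0 := by rw [hroot, map_zero]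
        rw [← aeval_algHom_apply] at h
        simpa [y] using h
    · intro D _ _ d hd
      obtain ⟨φ, hφ⟩ := huniv D (fun i => d i.succ) fun i => hd _
      refine ⟨AdjoinRoot.liftAlgHom G φ (d 0) ?_, fun i => ?_⟩
      · rw [Polynomial.eval₂_map]
        have := hd 0
        rw [aeval_def] at this
        convert this using 2
        ext s
        exact φ.commutes s
      · induction i using Fin.cases with
        | zero => simp [y]
        | succ i => simp [y, hφ]

theorem exists_split (A : Type u) [CommRing A] (g : A[X]) (hg : g.Monic) :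
    ∃ (S : Type u) (_ : CommRing S) (_ : Algebra A S), Module.Finite A S ∧ Module.Free A S ∧
      (∀ p : PrimeSpectrum A, ∃ q : PrimeSpectrum S, PrimeSpectrum.comap (algebraMap A S) q = p) ∧
      ∃ (N : ℕ) (r : Fin N → S), g.map (algebraMap A S) = ∏ k, (X - Polynomial.C (r k)) := by
  rcases subsingleton_or_nontrivial A with h | h
  · refine ⟨A, inferInstance, Algebra.id A, inferInstance, inferInstance, fun p => ⟨p, rfl⟩, 0, Fin.elim0, ?_⟩
    exact Subsingleton.elim _ _
  · obtain ⟨S, _, _, _, _, _, hS⟩ := hg.exists_splits_map
    obtain ⟨m, hm⟩ := splits_iff_exists_multiset.1 hS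
    rw [(hg.map (algebraMap A S)).leadingCoeff, Polynomial.C_1, one_mul] at hm
    refine ⟨S, inferInstance, inferInstance, inferInstance, inferInstance,
      fun p => PrimeSpectrum.comap_surjective_of_faithfullyFlat (A := A) (B := S) p,
      m.toList.length, fun k => m.toList[k.1], ?_⟩
    rw [hm]
    conv_lhs => rw [← m.coe_toList]
    rw [Multiset.map_coe, Multiset.prod_coe, ← List.ofFn_getElem_eq_map, List.prod_ofFn]

theorem exists_cover (A B : Type u) [CommRing A] [CommRing B] [Algebra A B] [Module.Finite A B] :
    ∃ (S : Type u) (_ : CommRing S) (_ : Algebra A S), Module.Finite A S ∧ Module.Free A S ∧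
      (∀ p : PrimeSpectrum A, ∃ q : PrimeSpectrum S, PrimeSpectrum.comap (algebraMap A S) q = p) ∧
      ∃ (C : Type u) (_ : CommRing C) (_ : Algebra S C), Module.Free S C ∧ Module.Finite S C ∧
        (∃ π : C →ₐ[S] S ⊗[A] B, Function.Surjective π) ∧
        ∃ (m : ℕ) (σ : Fin m → (C →ₐ[S] S)),
          ∀ q : Ideal C, q.IsPrime → ∃ j, RingHom.ker (σ j).toRingHom ≤ q := by
  classical
  obtain ⟨n, b, hb⟩ := Submodule.fg_iff_exists_fin_generating_family.1 (Module.finite_def.1 ‹Module.Finite A B›)
  choose gi hgi hgi0 using fun i => Algebra.IsIntegral.isIntegral (R := A) (b i)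
  let g := ∏ i, gi i
  have hg : g.Monic := monic_prod_of_monic _ _ fun i _ => hgi i
  have hgb : ∀ i, aeval (b i) g = 0 := fun i => by
    rw [map_prod]
    exact Finset.prod_eq_zero (Finset.mem_univ i) (hgi0 i)
  obtain ⟨S, _, _, hfin, hfree, hsurj, N, r, hr⟩ := exists_split A g hg
  obtain ⟨C, _, _, x, hCfree, hCfin, hgen, hroot, huniv⟩ := exists_universal (hg.map (algebraMap A S)) n
  refine ⟨S, inferInstance, inferInstance, hfin, hfree, hsurj, C, inferInstance, inferInstance, hCfree, hCfin, ?_, ?_⟩
  · obtain ⟨π, hπ⟩ := huniv (S ⊗[A] B) (fun i => (1 : S) ⊗ₜ b i) fun i => by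
      rw [aeval_map_algebraMap]
      have h := congrArg (Algebra.TensorProduct.includeRight : B →ₐ[A] S ⊗[A] B) (hgb i)
      rw [map_zero, ← aeval_algHom_apply] at h
      exact h
    refine ⟨π, fun z => ?_⟩
    induction z using TensorProduct.induction_on with
    | zero => exact ⟨0, map_zero _⟩
    | add u v hu hv =>
      obtain ⟨u, rfl⟩ := hu
      obtain ⟨v, rfl⟩ := hv
      exact ⟨u + v, map_add _ _ _⟩
    | tmul s c =>
      obtain ⟨co, hco⟩ := (Submodule.mem_span_range_iff_exists_fun A).1 (hb ▸ Submodule.mem_top (x := c))
      refine ⟨∑ i, algebraMap S C (s * algebraMap A S (co i)) * x i, ?_⟩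
      rw [map_sum, ← hco, TensorProduct.tmul_sum]
      refine Finset.sum_congr rfl fun i _ => ?_
      rw [map_mul, AlgHom.commutes, hπ, Algebra.TensorProduct.algebraMap_apply, Algebra.algebraMap_self,
        RingHom.id_apply, Algebra.TensorProduct.tmul_mul_tmul, mul_one, one_mul, TensorProduct.tmul_smul,
        TensorProduct.smul_tmul', Algebra.smul_def, mul_comm]
  · let F := Fin n → Fin N
    let e := (Fintype.equivFin F).symm
    have hev : ∀ k : F, ∀ i, aeval (r (k i)) (g.map (algebraMap A S)) = 0 := fun k i => by
      rw [hr, map_prod]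
      exact Finset.prod_eq_zero (Finset.mem_univ (k i)) (by simp)
    choose σ hσ using fun k : F => huniv S (fun i => r (k i)) (hev k)
    refine ⟨Fintype.card F, fun j => σ (e j), fun q hq => ?_⟩
    have hx : ∀ i, ∃ k, x i - algebraMap S C (r k) ∈ q := fun i => by
      have h : (∏ k, (x i - algebraMap S C (r k))) ∈ q := by
        have h0 := hroot i
        rw [hr, map_prod] at h0
        simp only [map_sub, aeval_X, aeval_C] at h0
        rw [h0]
        exact q.zero_mem
      obtain ⟨k, -, hk⟩ := hq.prod_mem_iff.1 h
      exact ⟨k, hk⟩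
    choose k hk using hx
    refine ⟨e.symm k, fun c hc => ?_⟩
    have hall : ∀ c : C, c - algebraMap S C (σ k c) ∈ q := fun c => by
      have hcmem : c ∈ Algebra.adjoin S (Set.range x) := hgen ▸ Algebra.mem_top
      induction hcmem using Algebra.adjoin_induction with
      | mem c hc => obtain ⟨i, rfl⟩ := hc; rw [hσ]; exact hk i
      | algebraMap s => rw [AlgHom.commutes, Algebra.algebraMap_self, RingHom.id_apply, sub_self]; exact q.zero_mem
      | add a b _ _ ha hb => rw [map_add, map_add, add_sub_add_comm]; exact q.add_mem ha hb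
      | mul a b _ _ ha hb =>
        rw [map_mul, map_mul]
        have : a * b - algebraMap S C (σ k a) * algebraMap S C (σ k b) =
            a * (b - algebraMap S C (σ k b)) + algebraMap S C (σ k b) * (a - algebraMap S C (σ k a)) := by ring
        rw [this]
        exact q.add_mem (q.mul_mem_left _ hb) (q.mul_mem_left _ ha)
    have h := hall c
    simp only [Equiv.apply_symm_apply] at hc
    rw [show σ k c = 0 from hc, map_zero, sub_zero] at h
    exact h

end Groth.Agent.SectCover
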